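import Groth.Agent.Lib.Helper97.DefObs.SemiSmall
import Groth.Agent.Lib.Helper97.DefLCI.OfAlgL
import Groth.Agent.Lib.Helper76.ArtFibre
import Groth.Agent.Lib.Helper76.ArtBasic

/-!
# Lifting a deformation to a hyperplane quotient of a semismall extension (objects of `Art k k`)
-/

set_option autoImplicit false

namespace Groth.Agent.Lib.Helper97.DefObs

open Groth.Agent.Lib.Helper97.CotT2 Groth.Agent.Lib.Helper97.DefAff MvPolynomial
open Groth.Agent.Lib.Helper97.DefLift Groth.Agent.Lib.Helper97.DefLCI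
open ArtFun ArtFun.Art CategoryTheory

universe u

variable {k : Type u} [Field k] {B₀ : Type u} [CommRing B₀] [Algebra k B₀] {ι : Type u}
  {σ : Type*} [Algebra (MvPolynomial ι k) B₀] [IsScalarTower k (MvPolynomial ι k) B₀]
  (hκ : Function.Surjective (algebraMap (MvPolynomial ι k) B₀))
  (rel : σ → MvPolynomial ι k)
  (hrel : Ideal.span (Set.range rel) = RingHom.ker (algebraMap (MvPolynomial ι k) B₀))

/-- Any `n > r` obstruction cocycles are linearly dependent modulo coboundaries. -/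
def DepBound (B₀ : Type u) [CommRing B₀] [Algebra k B₀] [Algebra (MvPolynomial ι k) B₀]
    (rel : σ → MvPolynomial ι k) (r : ℕ) : Prop :=
  ∀ n : ℕ, r < n → ∀ φ : Fin n → (Q rel →ₗ[MvPolynomial ι k] B₀),
    (∀ j (q : Q rel), (q : σ →₀ MvPolynomial ι k) ∈ F0 rel → φ j q = 0) →
    ∃ c : Fin n → k, c ≠ 0 ∧ ∃ Ψ : (σ →₀ MvPolynomial ι k) →ₗ[MvPolynomial ι k] B₀,
      ∀ q : Q rel, ∑ j, algebraMap (MvPolynomial ι k) B₀ (C (c j)) * φ j q = Ψ q

include hκ hrel in
theorem exists_hyperplane_algData {r : ℕ} (hdep : DepBound B₀ rel r)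
    {D' D : Art k k} (p : D' ⟶ D) (hp : IsSemismallExt p) (d : AlgDataL D B₀)
    (hn : r < Module.finrank k (Ik k p.toAlgHom.toRingHom)) :
    ∃ (K : Ideal D') (hK : K ≤ IsLocalRing.maximalIdeal D') (hKJ : K ≤ RingHom.ker p.toAlgHom)
      (_ : K ≠ RingHom.ker p.toAlgHom) (d' : AlgDataL (D'.quot K hK) B₀),
      Nonempty (((ofAlgL d').baseChange (quotFactor hK p hKJ)).Iso (ofAlgL d)) := by
  classical
  haveI : Module.Finite k D' := Groth.Agent.Lib.Helper76.finite_carrier D'
  have hpe : D.res.toRingHom.comp p.toAlgHom.toRingHom = D'.res.toRingHom :=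
    congrArg AlgHom.toRingHom p.res_comp
  have hmI : ∀ c ∈ IsLocalRing.maximalIdeal D', ∀ x ∈ RingHom.ker p.toAlgHom.toRingHom,
      c * x = 0 := by
    intro c hc x hx
    have h1 : c * x ∈ IsLocalRing.maximalIdeal D' * RingHom.ker p.toAlgHom :=
      Ideal.mul_mem_mul hc hx
    rw [hp.2] at h1
    exact h1
  have hπa : ∀ c : D, d.π (d.a c) =
      algebraMap (MvPolynomial ι k) B₀ (MvPolynomial.C (D.res.toRingHom c)) := by
    intro c
    rw [d.π_a c, IsScalarTower.algebraMap_apply k (MvPolynomial ι k) B₀]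
    rfl
  have hrv : ∀ i : ι, ∃ y : d.R, d.π y = algebraMap (MvPolynomial ι k) B₀ (X i) :=
    fun i => d.π_surj _
  choose rv hrv using hrv
  obtain ⟨K, hKJ, hne, R', _, a', π', q, hfl, hπ's, hkπ', hπ'a, hqs, hkq, hqa, hπq⟩ :=
    exists_hyperplane_lift D'.res.toRingHom D.res.toRingHom p.toAlgHom.toRingHom hpe
      D.res_surjective hp.1 (fun c => D'.res.commutes c) hmI hκ rel hrel d.a d.π d.flat d.π_surj
      d.ker_π hπa rv hrv rfl (hdep _ hn)
  have hKJ' : K ≤ RingHom.ker p.toAlgHom := hKJ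
  have hK : K ≤ IsLocalRing.maximalIdeal D' :=
    hKJ'.trans (Groth.Agent.Lib.Helper76.ker_le_maximalIdeal p)
  have hres : ∀ c : (D'.quot K hK), (D'.quot K hK).res c =
      D.res.toRingHom (pK p.toAlgHom.toRingHom K hKJ c) := by
    intro c
    obtain ⟨c, rfl⟩ := Ideal.Quotient.mk_surjective c
    exact (congrArg (fun g => g c) hpe).symm
  have hfac : ∀ c : (D'.quot K hK), (quotFactor hK p hKJ').toAlgHom c =
      pK p.toAlgHom.toRingHom K hKJ c := by
    intro c
    obtain ⟨c, rfl⟩ := Ideal.Quotient.mk_surjective c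
    rfl
  let a'' : (D'.quot K hK) →+* R' := a'
  have hkπ'' : RingHom.ker π' = (RingHom.ker (D'.quot K hK).res.toRingHom).map a'' := by
    let e1 : (D'.carrier ⧸ K) →+* k := (D'.quot K hK).res.toRingHom
    have hE : RingHom.ker (D.res.toRingHom.comp (pK p.toAlgHom.toRingHom K hKJ)) =
        RingHom.ker e1 := by
      ext c
      rw [RingHom.mem_ker, RingHom.mem_ker]
      exact Iff.of_eq (congrArg (· = 0) (hres c).symm)
    exact hkπ'.trans (congrArg (Ideal.map a') hE)
  have hkq'' : RingHom.ker q =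
      (RingHom.ker (quotFactor hK p hKJ').toAlgHom.toRingHom).map a'' := by
    let e1 : (D'.carrier ⧸ K) →+* D := (quotFactor hK p hKJ').toAlgHom.toRingHom
    have hE : RingHom.ker (pK p.toAlgHom.toRingHom K hKJ) = RingHom.ker e1 := by
      ext c
      rw [RingHom.mem_ker, RingHom.mem_ker]
      exact Iff.of_eq (congrArg (· = 0) (hfac c).symm)
    exact hkq.trans (congrArg (Ideal.map a') hE)
  let d' : AlgDataL (D'.quot K hK) B₀ :=
    { R := R'
      a := a''
      π := π'
      flat := hfl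
      π_surj := hπ's
      ker_π := hkπ''
      π_a := fun c => by
        refine (hπ'a c).trans ?_
        rw [IsScalarTower.algebraMap_apply k (MvPolynomial ι k) B₀]
        exact congrArg (algebraMap (MvPolynomial ι k) B₀)
          (congrArg MvPolynomial.C (hres c).symm) }
  refine ⟨K, hK, hKJ', hne, d', ?_⟩
  refine nonempty_baseChange_isoL (quotFactor hK p hKJ') d' d q hqs ?_ hkq'' ?_ hπq
  · intro y
    obtain ⟨z, rfl⟩ := hp.1 y
    exact ⟨Ideal.Quotient.mk K z, rfl⟩
  · intro c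
    refine (hqa c).trans ?_
    exact congrArg d.a (hfac c).symm

end Groth.Agent.Lib.Helper97.DefObs
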