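import Groth.Agent.Lib.Helper97.DefLCI.CoreL

/-!
# The obstruction map of a small extension and lifting when it is a coboundary
-/

set_option autoImplicit false

namespace Groth.Agent.Lib.Helper97.DefLCI

open Groth.Agent.Lib.Helper97.CotT2 Groth.Agent.Lib.Helper97.DefLift

variable {S' S S₀ R B₀ : Type*} [CommRing S'] [CommRing S] [CommRing S₀] [CommRing R]
  [CommRing B₀] [Algebra S₀ B₀] {σ : Type*}

namespace CoreHypL

variable {ρ' : S' →+* S} {ρ : S →+* S₀} {pr : S →+* R} {π : R →+* B₀}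
  {t : S'} {f : σ → S₀} (h : CoreHypL ρ' ρ pr π t f)

variable {F : σ → S} {F' : σ → S'}

variable (hF1 : ∀ s, pr (F s) = 0) (hF2 : ∀ s, ρ (F s) = f s) (hF' : ∀ s, ρ' (F' s) = F s)

include h hF1 hF2 hF' in
/-- The obstruction map of the chosen lifts. -/
theorem exists_obMap : ∃ φ : Q f →ₗ[S₀] B₀,
    (∀ r : Q f, IsOb ρ' ρ t F' (r : σ →₀ S₀) (φ r)) ∧
      (∀ q : Q f, (q : σ →₀ S₀) ∈ F0 f → φ q = 0) := by
  classical
  have hspan := h.span_eq_ker F hF1 hF2
  have hF'' : ∀ s, (ρ.comp ρ') (F' s) = f s := fun s => by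
    rw [RingHom.comp_apply, hF', hF2]
  -- the obstruction map
  have hex := h.isOb_exists hF1 hF2 hF'
  let φfun : Q f → B₀ := fun r => Classical.choose (hex r.1 r.2)
  have hφfun : ∀ r : Q f, IsOb ρ' ρ t F' (r : σ →₀ S₀) (φfun r) :=
    fun r => Classical.choose_spec (hex r.1 r.2)
  have huniq := fun {r : σ →₀ S₀} {b b' : B₀} => h.isOb_unique hF1 hF2 hF' (r := r) (b := b) (b' := b')
  let φ : Q f →ₗ[S₀] B₀ :=
    { toFun := φfun
      map_add' := fun r₁ r₂ => huniq (hφfun (r₁ + r₂)) ((hφfun r₁).add (hφfun r₂))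
      map_smul' := fun g r => huniq (hφfun (g • r)) (CoreHypL.IsOb.smul h (hφfun r) g) }
  have hφ0 : ∀ q : Q f, (q : σ →₀ S₀) ∈ F0 f → φ q = 0 := by
    intro q hq
    have h1 : IsOb (B₀ := B₀) ρ' ρ t F' (q : σ →₀ S₀) 0 := by
      refine Submodule.span_induction (p := fun y _ => IsOb (B₀ := B₀) ρ' ρ t F' y 0) ?_ ?_ ?_ ?_ hq
      · rintro _ ⟨a, b, rfl⟩
        exact h.isOb_koszul hF2 hF' a b
      · exact IsOb.zero
      · intro y z _ _ hy hz
        have := hy.add hz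
        rwa [add_zero] at this
      · intro g y _ hy
        have := CoreHypL.IsOb.smul h hy g
        rwa [smul_zero] at this
    exact huniq (hφfun q) h1
  exact ⟨φ, hφfun, hφ0⟩

include h hF1 hF2 hF' in
/-- If the obstruction map extends to the free module, the kernel lifts. -/
theorem exists_lift_ideal_of_extends (φ : Q f →ₗ[S₀] B₀)
    (hφfun : ∀ r : Q f, IsOb ρ' ρ t F' (r : σ →₀ S₀) (φ r))
    (ψ : (σ →₀ S₀) →ₗ[S₀] B₀) (hψ : ∀ q : Q f, φ q = ψ q) :
    ∃ K' : Ideal S', K'.map ρ' = RingHom.ker pr ∧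
      ∀ x, t * x ∈ K' → algebraMap S₀ B₀ (ρ (ρ' x)) = 0 := by
  classical
  have hspan := h.span_eq_ker F hF1 hF2
  have hF'' : ∀ s, (ρ.comp ρ') (F' s) = f s := fun s => by
    rw [RingHom.comp_apply, hF', hF2]
  have huniq := fun {r : σ →₀ S₀} {b b' : B₀} => h.isOb_unique hF1 hF2 hF' (r := r) (b := b) (b' := b')
  -- correct the lifts
  have hg : ∀ s, ∃ g : S₀, algebraMap S₀ B₀ g = ψ (Finsupp.single s 1) := fun s => h.κ_surj _
  choose g hg using hg
  have hG : ∀ s, ∃ G : S', (ρ.comp ρ') G = g s := fun s => h.ρρ'_surj (g s)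
  choose G hG using hG
  let F'' : σ → S' := fun s => F' s - t * G s
  have hF''jm : ∀ q' : σ →₀ S', jm F'' q' = jm F' q' - t * jm G q' := by
    intro q'
    induction q' using Finsupp.induction_linear with
    | zero => simp
    | add a b ha hb => rw [map_add, map_add, map_add, ha, hb]; ring
    | single s x => rw [jm_single, jm_single, jm_single]; ring
  have hψjm : ∀ r : σ →₀ S₀, ψ r = algebraMap S₀ B₀ (jm g r) := by
    intro r
    induction r using Finsupp.induction_linear with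
    | zero => simp
    | add a b ha hb => rw [map_add, map_add, map_add, ha, hb]
    | single s x =>
      have : Finsupp.single s x = x • Finsupp.single s (1 : S₀) := by
        rw [Finsupp.smul_single, smul_eq_mul, mul_one]
      rw [this, map_smul, ← hg, jm_smul', jm_single, one_mul, map_mul, Algebra.smul_def]
  have hGg : ∀ s, (ρ.comp ρ') (G s) = g s := hG
  -- key property of the corrected lifts
  have key : ∀ (q' : σ →₀ S') (x : S'), jm F' q' = t * x →
      ∃ y, jm F'' q' = t * y ∧ algebraMap S₀ B₀ (ρ (ρ' y)) = 0 := by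
    intro q' x hx
    refine ⟨x - jm G q', ?_, ?_⟩
    · rw [hF''jm, hx, mul_sub]
    · set r := mr (ρ.comp ρ') q' with hr
      have hrQ : r ∈ Q f := by
        rw [mem_Q, hr, jm_mr (ρ.comp ρ') F' f hF'', hx, RingHom.comp_apply, map_mul, h.ρ'_t,
          zero_mul, map_zero]
      have h1 : IsOb ρ' ρ t F' r (algebraMap S₀ B₀ (ρ (ρ' x))) := ⟨q', x, rfl, hx, rfl⟩
      have h2 : φ ⟨r, hrQ⟩ = algebraMap S₀ B₀ (ρ (ρ' x)) := huniq (hφfun ⟨r, hrQ⟩) h1
      have h3 : ψ r = algebraMap S₀ B₀ (ρ (ρ' (jm G q'))) := by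
        rw [hψjm, hr, jm_mr (ρ.comp ρ') G g hGg]
        rfl
      rw [map_sub, map_sub, map_sub, ← h2, ← h3, hψ ⟨r, hrQ⟩, sub_self]
  -- the ideal
  let T : Ideal S' := Ideal.span {t} * (RingHom.ker (algebraMap S₀ B₀)).comap (ρ.comp ρ')
  have hT : ∀ z ∈ T, ∃ x₀ : S', algebraMap S₀ B₀ (ρ (ρ' x₀)) = 0 ∧ z = t * x₀ := by
    intro z hz
    refine Submodule.mul_induction_on hz ?_ ?_
    · intro a ha b hb
      obtain ⟨c, rfl⟩ := Ideal.mem_span_singleton'.mp ha
      have hb' : algebraMap S₀ B₀ (ρ (ρ' b)) = 0 := hb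
      refine ⟨c * b, ?_, ?_⟩
      · rw [map_mul, map_mul, map_mul, hb', mul_zero]
      · ring
    · rintro y z ⟨g₁, h1, rfl⟩ ⟨g₂, h2, rfl⟩
      exact ⟨g₁ + g₂, by rw [map_add, map_add, map_add, h1, h2, add_zero], by rw [mul_add]⟩
  refine ⟨Ideal.span (Set.range F'') ⊔ T, ?_, ?_⟩
  · rw [Ideal.map_sup, Ideal.map_span, ← Set.range_comp]
    have h1 : (ρ' ∘ F'') = F := by
      funext s
      show ρ' (F' s - t * G s) = F s
      rw [map_sub, map_mul, h.ρ'_t, zero_mul, sub_zero, hF']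
    have h2 : T.map ρ' = ⊥ := by
      rw [eq_bot_iff, Ideal.map_le_iff_le_comap]
      intro z hz
      obtain ⟨g₀, -, rfl⟩ := hT z hz
      rw [Ideal.mem_comap, map_mul, h.ρ'_t, zero_mul]
      exact Ideal.zero_mem _
    rw [h1, h2, sup_bot_eq, hspan]
  · intro x hx
    obtain ⟨y, hy, z, hz, hyz⟩ := Submodule.mem_sup.mp hx
    change y ∈ Submodule.span S' (Set.range F'') at hy
    rw [← Finsupp.range_linearCombination] at hy
    obtain ⟨q', rfl⟩ := hy
    obtain ⟨x₀, hx₀, rfl⟩ := hT z hz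
    have h1 : jm F'' q' = t * (x - x₀) := by
      rw [mul_sub, ← hyz]
      show jm F'' q' = jm F'' q' + t * x₀ - t * x₀
      ring
    have h2 : jm F' q' = t * (x - x₀ + jm G q') := by
      have := hF''jm q'
      rw [h1] at this
      rw [mul_add, this]
      ring
    obtain ⟨y, hy1, hy2⟩ := key q' _ h2
    have h3 : ρ (ρ' y) = ρ (ρ' (x - x₀)) := h.ρ₀_eq_of_t_mul_eq (hy1.symm.trans h1)
    rw [h3, map_sub, map_sub, map_sub, hx₀, sub_zero] at hy2
    exact hy2

end CoreHypL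

end Groth.Agent.Lib.Helper97.DefLCI
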