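import Groth.Agent.Lib.Helper97.DefObs.ArtOb
import Groth.Agent.Lib.Helper97.CotT2.Bridge

/-!
# The dependency bound from finite-dimensionality of `T²`
-/

set_option autoImplicit false

namespace Groth.Agent.Lib.Helper97.DefObs

open Groth.Agent.Lib.Helper97.CotT2 MvPolynomial

universe u

variable {k : Type u} [Field k] {B₀ : Type u} [CommRing B₀] [Algebra k B₀] {ι σ : Type u}

/-- More than `dim T²` obstruction cocycles are dependent modulo coboundaries. -/
theorem dep_of_T2 (P : Algebra.Presentation k B₀ ι σ) [Module.Finite k (CotT.T2 P B₀)] (n : ℕ)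
    (hn : Module.finrank k (CotT.T2 P B₀) < n)
    (φ : Fin n → (Q (CotT.rel P) →ₗ[P.toExtension.Ring] B₀))
    (hφ : ∀ j (q : Q (CotT.rel P)), (q : σ →₀ P.toExtension.Ring) ∈ F0 (CotT.rel P) → φ j q = 0) :
    ∃ c : Fin n → k, c ≠ 0 ∧ ∃ Ψ : (σ →₀ P.toExtension.Ring) →ₗ[P.toExtension.Ring] B₀,
      ∀ q : Q (CotT.rel P), ∑ j, algebraMap P.toExtension.Ring B₀
        (algebraMap k P.toExtension.Ring (c j)) * φ j q = Ψ q := by
  classical
  let z : Fin n → Z (CotT.rel P) B₀ B₀ := fun j => ⟨φ j, hφ j⟩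
  let g : Fin n → (CotT.L2 P →ₗ[B₀] B₀) := fun j => ofZ P B₀ (z j)
  have hnli : ¬ LinearIndependent k
      (fun j => (Submodule.Quotient.mk (g j) : CotT.T2 P B₀)) := by
    intro hli
    have := hli.fintype_card_le_finrank
    rw [Fintype.card_fin] at this
    exact absurd (lt_of_le_of_lt this hn) (lt_irrefl _)
  obtain ⟨c, hc0, i, hi⟩ := Fintype.not_linearIndependent_iff.1 hnli
  refine ⟨c, fun h => hi (congrFun h i), ?_⟩
  have hmem : ∑ j, c j • g j ∈ LinearMap.range (CotT.d2Star P B₀) := by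
    refine (Submodule.Quotient.mk_eq_zero (LinearMap.range (CotT.d2Star P B₀))).1 ?_
    rw [← Submodule.mkQ_apply, map_sum]
    exact hc0
  have hBd : toZEquiv P B₀ (∑ j, c j • g j) ∈ Bd (CotT.rel P) B₀ B₀ := by
    rw [← map_range_d2Star]
    exact Submodule.mem_map_of_mem hmem
  obtain ⟨Ψ, hΨ⟩ := hBd
  refine ⟨Ψ, fun q => ?_⟩
  refine Eq.trans ?_ (hΨ q)
  have h1 : ((toZEquiv P B₀ (∑ j, c j • g j) : Z (CotT.rel P) B₀ B₀) :
      Q (CotT.rel P) →ₗ[P.toExtension.Ring] B₀) q = (∑ j, c j • g j) (cls P q) := rfl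
  rw [h1, LinearMap.sum_apply]
  refine Finset.sum_congr rfl fun j _ => ?_
  rw [LinearMap.smul_apply, Algebra.smul_def, IsScalarTower.algebraMap_apply k P.toExtension.Ring B₀]
  congr 1
  exact (ofZ_cls P B₀ (z j) q).symm

theorem depBound_of_T2 (P : Algebra.Presentation k B₀ ι σ) [Module.Finite k (CotT.T2 P B₀)] :
    letI : Algebra (MvPolynomial ι k) B₀ := P.toGenerators.algebra
    DepBound B₀ (CotT.rel P) (Module.finrank k (CotT.T2 P B₀)) := by
  intro n hn φ hφ
  exact dep_of_T2 P n hn φ hφ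

end Groth.Agent.Lib.Helper97.DefObs
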