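import Groth.Agent.Lib.Helper94.ObsPS
import Groth.Agent.Lib.Helper76.SchlCut
import Groth.Agent.Lib.Helper76.SchlTangent

/-!
# The space of derivations `R → k` of a quotient of a power series ring by an ideal in `n²`
-/

set_option autoImplicit false

namespace Groth.Agent.Lib.Helper97.DefObs

open ArtFun ArtFun.Art Groth.Agent.Lib.Helper76 Groth.Agent.Lib.Helper94.ObsPS MvPowerSeries
open IsLocalRing

universe u

attribute [local instance] cringAlgebra cringTower

variable {k : Type u} [Field k]

theorem finrank_derivation (Rr : CRing k k) {d : ℕ}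
    (ψ : MvPowerSeries (Fin d) k →ₐ[k] Rr.carrier) (hsurj : Function.Surjective ψ)
    (hker : RingHom.ker ψ ≤ maximalIdeal (MvPowerSeries (Fin d) k) ^ 2) :
    Module.finrank k (Derivation k Rr.carrier k) = d := by
  let Lm : Derivation k Rr.carrier k →ₗ[k] (Fin d → k) :=
    { toFun := fun D i => D (ψ (X i))
      map_add' := fun D D' => rfl
      map_smul' := fun c D => rfl }
  have hψm : ∀ i, algebraMap Rr.carrier k (ψ (X i)) = 0 := by
    intro i
    exact algHom_eq_zero_of_mem (Rr.res.comp ψ) (X_mem_maximalIdeal i)
  have hinj : Function.Injective Lm := by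
    intro D D' h
    have hi : ∀ i, D (ψ (X i)) = D' (ψ (X i)) := fun i => congrFun h i
    let θ : HomSet Rr.carrier Rr.res (dual k k) := homSetOfDer (cring_hres Rr) D
    let θ' : HomSet Rr.carrier Rr.res (dual k k) := homSetOfDer (cring_hres Rr) D'
    have hfg : θ.1.comp ψ = θ'.1.comp ψ := by
      apply algHom_ext_X (dual k k)
      intro i
      apply TrivSqZeroExt.ext
      · rfl
      · exact hi i
    have hθ : θ = θ' := by
      apply Subtype.ext
      apply AlgHom.ext
      intro r
      obtain ⟨s, rfl⟩ := hsurj r
      exact DFunLike.congr_fun hfg s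
    have h1 := congrArg (derOf (cring_hres Rr)) hθ
    rwa [derOf_homSetOfDer, derOf_homSetOfDer] at h1
  have hsurj' : Function.Surjective Lm := by
    intro c
    have hc : ∀ i, (TrivSqZeroExt.inr (c i) : (dual k k).carrier) ∈
        maximalIdeal (dual k k).carrier := by
      intro i
      exact ((dual k k).mem_maximalIdeal_iff _).2 rfl
    obtain ⟨f, hf⟩ := exists_algHom (dual k k) (fun i => TrivSqZeroExt.inr (c i)) hc
    have hkill : RingHom.ker ψ.toRingHom ≤ RingHom.ker f.toRingHom := by
      intro s hs
      have hs2 : s ∈ maximalIdeal (MvPowerSeries (Fin d) k) ^ 2 := hker hs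
      rw [pow_two] at hs2
      rw [RingHom.mem_ker]
      refine Submodule.mul_induction_on hs2 ?_ ?_
      · intro a ha b hb
        show f (a * b) = 0
        rw [map_mul]
        exact dual_mul_eq_zero _ _ (map_mem_maximalIdeal (dual k k) f ha)
          (map_mem_maximalIdeal (dual k k) f hb)
      · intro x y hx hy
        show f (x + y) = 0
        rw [map_add]
        have hx' : f x = 0 := hx
        have hy' : f y = 0 := hy
        rw [hx', hy', add_zero]
    let g : Rr.carrier →ₐ[k] (dual k k).carrier := AlgHom.liftOfSurjective ψ hsurj f hkill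
    have hg : ∀ s, g (ψ s) = f s := fun s => AlgHom.liftOfSurjective_apply ψ hsurj f hkill s
    have hres : (dual k k).res.comp g = Rr.res := by
      apply AlgHom.ext
      intro r
      obtain ⟨s, rfl⟩ := hsurj r
      have h1 : ((dual k k).res.comp f) = (Rr.res.comp ψ) := by
        apply algHom_ext_X (base k k)
        intro i
        have e1 : ((dual k k).res.comp f) (X i) = 0 := by
          show (dual k k).res (f (X i)) = 0
          rw [hf i]
          rfl
        have e2 : (Rr.res.comp ψ) (X i) = 0 := hψm i
        exact e1.trans e2.symm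
      show (dual k k).res (g (ψ s)) = Rr.res (ψ s)
      rw [hg]
      exact DFunLike.congr_fun h1 s
    let θ : HomSet Rr.carrier Rr.res (dual k k) := ⟨g, hres⟩
    refine ⟨derOf (cring_hres Rr) θ, ?_⟩
    funext i
    show derOf (cring_hres Rr) θ (ψ (X i)) = c i
    rw [derOf_apply]
    show TrivSqZeroExt.snd (g (ψ (X i))) = c i
    rw [hg, hf i]
    rfl
  rw [(LinearEquiv.ofBijective Lm ⟨hinj, hsurj'⟩).finrank_eq, Module.finrank_fin_fun]

end Groth.Agent.Lib.Helper97.DefObs
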