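import Groth.Agent.Lib.Helper97.DefObs.ArtOb
import Groth.Agent.Lib.Helper97.DefHull.Basic
import Groth.Agent.Lib.Helper94.ObsBound

/-!
# The deformation functor of an affine scheme has bounded obstructions
-/

set_option autoImplicit false

namespace Groth.Agent.Lib.Helper97.DefObs

open Groth.Agent.Lib.Helper97.CotT2 Groth.Agent.Lib.Helper97.DefAff MvPolynomial
open Groth.Agent.Lib.Helper97.DefLift Groth.Agent.Lib.Helper97.DefLCI
open Groth.Agent.Lib.Helper97.DefHull
open ArtFun ArtFun.Art CategoryTheory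

universe u

variable {k : Type u} [Field k] {B₀ : Type u} [CommRing B₀] [Algebra k B₀] {ι : Type u}
  {σ : Type*} [Algebra (MvPolynomial ι k) B₀] [IsScalarTower k (MvPolynomial ι k) B₀]
  (hκ : Function.Surjective (algebraMap (MvPolynomial ι k) B₀))
  (rel : σ → MvPolynomial ι k)
  (hrel : Ideal.span (Set.range rel) = RingHom.ker (algebraMap (MvPolynomial ι k) B₀))

/-- If the kernel has dimension at most `r`, it is generated by `r` elements. -/
theorem exists_span_of_finrank_le {D' D : Art k k} (p : D' ⟶ D) {r : ℕ}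
    (hn : Module.finrank k (Ik k p.toAlgHom.toRingHom) ≤ r) :
    ∃ x : Fin r → D', (∀ i, x i ∈ RingHom.ker p.toAlgHom) ∧
      RingHom.ker p.toAlgHom ≤ Ideal.span (Set.range x) := by
  classical
  haveI : Module.Finite k D' := Groth.Agent.Lib.Helper76.finite_carrier D'
  let b := Module.finBasis k (Ik k p.toAlgHom.toRingHom)
  let x : Fin r → D' := fun i =>
    if h : (i : ℕ) < Module.finrank k (Ik k p.toAlgHom.toRingHom) then (b ⟨i, h⟩ : D') else 0
  refine ⟨x, ?_, ?_⟩
  · intro i
    show (if h : (i : ℕ) < Module.finrank k (Ik k p.toAlgHom.toRingHom)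
      then (b ⟨i, h⟩ : D') else 0) ∈ RingHom.ker p.toAlgHom
    split_ifs with h
    · exact (b ⟨i, h⟩).2
    · exact Ideal.zero_mem _
  · intro y hy
    have h1 := b.sum_repr ⟨y, hy⟩
    have h2 : y = ∑ j, (b.repr ⟨y, hy⟩ j) • ((b j : Ik k p.toAlgHom.toRingHom) : D') := by
      have := congrArg (fun z : Ik k p.toAlgHom.toRingHom => (z : D')) h1
      simp only [Submodule.coe_sum, Submodule.coe_smul] at this
      exact this.symm
    rw [h2]
    refine Ideal.sum_mem _ fun j _ => ?_
    rw [Algebra.smul_def]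
    refine Ideal.mul_mem_left _ _ (Ideal.subset_span ⟨⟨j, lt_of_lt_of_le j.2 hn⟩, ?_⟩)
    show (if h : (j : ℕ) < Module.finrank k (Ik k p.toAlgHom.toRingHom)
      then (b ⟨j, h⟩ : D') else 0) = _
    rw [dif_pos j.2]

include hκ hrel in
theorem hasObsBound_defF_aux {r : ℕ} (hdep : DepBound B₀ rel r) (n : ℕ) :
    ∀ ⦃D' D : Art k k⦄ (p : D' ⟶ D), IsSemismallExt p →
      Module.finrank k (Ik k p.toAlgHom.toRingHom) = n → ∀ u : (DefF k k B₀).obj D,
    ∃ x : Fin r → D', (∀ i, x i ∈ RingHom.ker p.toAlgHom) ∧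
      ∀ (hK : Ideal.span (Set.range x) ≤ IsLocalRing.maximalIdeal D')
        (hKJ : Ideal.span (Set.range x) ≤ RingHom.ker p.toAlgHom),
        ∃ u'' : (DefF k k B₀).obj (D'.quot _ hK),
          (DefF k k B₀).map (quotFactor hK p hKJ) u'' = u := by
  induction n using Nat.strong_induction_on with
  | _ n ih =>
    intro D' D p hp hn u
    haveI : Module.Finite k D' := Groth.Agent.Lib.Helper76.finite_carrier D'
    by_cases hnr : n ≤ r
    · obtain ⟨x, hx1, hx2⟩ := exists_span_of_finrank_le p (hn.le.trans hnr)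
      refine ⟨x, hx1, fun hK hKJ => ?_⟩
      have hbij : Function.Bijective (quotFactor hK p hKJ) := by
        constructor
        · intro y₁ y₂ h
          obtain ⟨z₁, rfl⟩ := quotMk_surjective D' _ hK y₁
          obtain ⟨z₂, rfl⟩ := quotMk_surjective D' _ hK y₂
          rw [Groth.Agent.Lib.Helper76.quotMk_eq_iff]
          apply hx2
          rw [RingHom.mem_ker, map_sub, sub_eq_zero]
          exact h
        · intro y
          obtain ⟨z, rfl⟩ := hp.1 y
          exact ⟨quotMk D' _ hK z, rfl⟩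
      haveI := Groth.Agent.Lib.Helper76.isIso_of_bijective _ hbij
      refine ⟨(DefF k k B₀).map (inv (quotFactor hK p hKJ)) u, ?_⟩
      rw [← Functor.map_comp_apply, IsIso.inv_hom_id, Functor.map_id_apply]
    · push_neg at hnr
      obtain ⟨ξ, rfl⟩ := Quotient.exists_rep u
      obtain ⟨d, ⟨e⟩⟩ := exists_algData_isoL ξ
      obtain ⟨K₁, hK₁, hK₁J, hne, d', ⟨β⟩⟩ :=
        exists_hyperplane_algData hκ rel hrel hdep p hp d (hn ▸ hnr)
      have hsm : IsSemismallExt (quotMk D' K₁ hK₁) := by
        refine ⟨quotMk_surjective _ _ _, ?_⟩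
        rw [Groth.Agent.Lib.Helper76.ker_quotMk, ← le_bot_iff, ← hp.2]
        exact Ideal.mul_mono_right hK₁J
      have hlt : Module.finrank k (Ik k (quotMk D' K₁ hK₁).toAlgHom.toRingHom) < n := by
        rw [← hn]
        apply Submodule.finrank_lt_finrank_of_lt
        refine lt_of_le_of_ne ?_ ?_
        · intro y hy
          have hy' : y ∈ RingHom.ker (quotMk D' K₁ hK₁).toAlgHom := hy
          rw [Groth.Agent.Lib.Helper76.ker_quotMk] at hy'
          exact hK₁J hy'
        · intro h
          apply hne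
          have h' : RingHom.ker (quotMk D' K₁ hK₁).toAlgHom = RingHom.ker p.toAlgHom := by
            ext y
            exact (SetLike.ext_iff.1 h y)
          rw [← h', Groth.Agent.Lib.Helper76.ker_quotMk]
      obtain ⟨x, hx1, hx2⟩ := ih _ hlt (quotMk D' K₁ hK₁) hsm rfl (ofAlgL d').cl
      have hxK₁ : ∀ i, x i ∈ K₁ := fun i => by
        have := hx1 i
        rwa [Groth.Agent.Lib.Helper76.ker_quotMk] at this
      refine ⟨x, fun i => hK₁J (hxK₁ i), fun hK hKJ => ?_⟩
      have hKJ' : Ideal.span (Set.range x) ≤ RingHom.ker (quotMk D' K₁ hK₁).toAlgHom := by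
        rw [Ideal.span_le]
        rintro _ ⟨i, rfl⟩
        exact hx1 i
      obtain ⟨u'', hu''⟩ := hx2 hK hKJ'
      refine ⟨u'', ?_⟩
      have hcomp : quotFactor hK (quotMk D' K₁ hK₁) hKJ' ≫ quotFactor hK₁ p hK₁J =
          quotFactor hK p hKJ := by
        apply Art.hom_ext
        apply AlgHom.ext
        intro y
        obtain ⟨z, rfl⟩ := quotMk_surjective D' _ hK y
        rfl
      rw [← hcomp, Functor.map_comp_apply, hu'']
      show ((ofAlgL d').baseChange (quotFactor hK₁ p hK₁J)).cl = _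
      exact Quotient.sound ⟨β.trans e⟩

include hκ hrel in
/-- The deformation functor of `Spec B₀` has obstructions bounded by `r`. -/
theorem hasObsBound_defF {r : ℕ} (hdep : DepBound B₀ rel r) :
    Groth.Agent.Lib.Helper94.ObsDim.HasObsBound (DefF k k B₀) r :=
  fun _ _ p hp u => hasObsBound_defF_aux hκ rel hrel hdep _ p hp rfl u

end Groth.Agent.Lib.Helper97.DefObs
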