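import Groth.Agent.Lib.Helper94.ObsDim
import Groth.Agent.Lib.Helper94.ObsBound
import Groth.Agent.S12727

/-!
# Dimension of a hull of a functor with bounded obstructions
-/

set_option autoImplicit false

namespace Groth.Agent.Lib.Helper97.DefObs

open ArtFun ArtFun.Art CategoryTheory Groth.Agent.Lib.Helper94.ObsPS Groth.Agent.Lib.Helper94.ObsDim
open MvPowerSeries IsLocalRing

universe u v

variable {k : Type u} [Field k] {F : Art k k ⥤ Type v}

/-- A smooth functor has obstructions bounded by `0`. -/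
theorem hasObsBound_zero_of_isSmoothFunctor (hF : IsSmoothFunctor F) : HasObsBound F 0 := by
  intro C' C p hp u
  refine ⟨Fin.elim0, fun i => i.elim0, fun hK hKJ => ?_⟩
  have hs : Function.Surjective (quotFactor hK p hKJ) := by
    intro y
    obtain ⟨z, rfl⟩ := hp.1 y
    exact ⟨quotMk C' _ hK z, rfl⟩
  exact hF _ hs u

/-- The functor `h_R` of a power series ring is smooth (lifting form). -/
theorem exists_lift_of_bijective (Rr : CRing k k) {d : ℕ}
    (ψ : MvPowerSeries (Fin d) k →ₐ[k] Rr.carrier) (hbij : Function.Bijective ψ)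
    {B A : Art k k} (μ : B ⟶ A) (hμ : Function.Surjective μ) (φ : HomSet Rr.carrier Rr.res A) :
    ∃ φ' : HomSet Rr.carrier Rr.res B, HomSet.map μ φ' = φ := by
  let e : MvPowerSeries (Fin d) k ≃ₐ[k] Rr.carrier := AlgEquiv.ofBijective ψ hbij
  have he : ∀ s, e s = ψ s := fun s => rfl
  choose b hb using fun i => hμ (φ.1 (ψ (X i)))
  have hbm : ∀ i, b i ∈ maximalIdeal B := by
    intro i
    rw [B.mem_maximalIdeal_iff, ← res_app μ, hb i]
    have h1 : A.res (φ.1 (ψ (X i))) = Rr.res (ψ (X i)) := DFunLike.congr_fun φ.2 (ψ (X i))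
    rw [h1]
    exact algHom_eq_zero_of_mem (Rr.res.comp ψ) (X_mem_maximalIdeal i)
  obtain ⟨f', hf'⟩ := exists_algHom B b hbm
  have hcomp : μ.toAlgHom.comp f' = φ.1.comp ψ := by
    apply algHom_ext_X A
    intro i
    show μ (f' (X i)) = φ.1 (ψ (X i))
    rw [hf' i, hb i]
  let g : Rr.carrier →ₐ[k] B := f'.comp e.symm.toAlgHom
  have hg : ∀ s, g (ψ s) = f' s := by
    intro s
    show f' (e.symm (ψ s)) = f' s
    rw [← he s, AlgEquiv.symm_apply_apply]
  have hμg : ∀ r, μ (g r) = φ.1 r := by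
    intro r
    obtain ⟨s, rfl⟩ := hbij.2 r
    rw [hg]
    exact DFunLike.congr_fun hcomp s
  refine ⟨⟨g, ?_⟩, ?_⟩
  · apply AlgHom.ext
    intro r
    show B.res (g r) = Rr.res r
    rw [← res_app μ, hμg]
    exact DFunLike.congr_fun φ.2 r
  · apply Subtype.ext
    apply AlgHom.ext
    intro r
    exact hμg r

/-- Dimension estimates for a hull, given a presentation and obstruction bounds. -/
theorem hull_dim_main (H : Hull F) (h0 : H0 F) (d : ℕ)
    (ψ : MvPowerSeries (Fin d) k →ₐ[k] H.ring.carrier) (hsurj : Function.Surjective ψ)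
    (hker : RingHom.ker ψ ≤ maximalIdeal (MvPowerSeries (Fin d) k) ^ 2) :
    ringKrullDim H.ring.carrier ≤ (d : WithBot ℕ∞) ∧
      (∀ r : ℕ, HasObsBound F r →
        (d : WithBot ℕ∞) ≤ ringKrullDim H.ring.carrier + (r : WithBot ℕ∞)) ∧
      (ringKrullDim H.ring.carrier = (d : WithBot ℕ∞) ↔ IsSmoothFunctor F) := by
  let e : (MvPowerSeries (Fin d) k ⧸ RingHom.ker ψ) ≃ₐ[k] H.ring.carrier :=
    Ideal.quotientKerAlgEquivOfSurjective hsurj
  let res' : (MvPowerSeries (Fin d) k ⧸ RingHom.ker ψ) →ₐ[k] k := H.ring.res.comp e.toAlgHom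
  have hres : res'.comp e.symm.toAlgHom = H.ring.res := by
    apply AlgHom.ext
    intro x
    simp [res']
  obtain ⟨s, hs, hcard⟩ := exists_finset_span_eq (RingHom.ker ψ)
  have hdimR : ringKrullDim (MvPowerSeries (Fin d) k ⧸ RingHom.ker ψ) =
      ringKrullDim H.ring.carrier := ringKrullDim_eq_of_ringEquiv e.toRingEquiv
  have hP1 := Groth.Agent.S11741.ringKrullDim_mvPowerSeries_le k d
  have hP2 := Groth.Agent.S11741.le_ringKrullDim_mvPowerSeries k d
  have h1 : ringKrullDim H.ring.carrier ≤ (d : WithBot ℕ∞) := by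
    rw [← hdimR]
    exact (ringKrullDim_quotient_le _).trans hP1
  have hsjac : (s : Set (MvPowerSeries (Fin d) k)) ⊆ Ring.jacobson (MvPowerSeries (Fin d) k) := by
    rw [IsLocalRing.ringJacobson_eq_maximalIdeal]
    intro x hx
    have hx' : x ∈ RingHom.ker ψ := hs ▸ Ideal.subset_span hx
    exact (hker.trans (Ideal.pow_le_self (by norm_num))) hx'
  have h2' : (d : WithBot ℕ∞) ≤ ringKrullDim H.ring.carrier + (s.card : WithBot ℕ∞) := by
    have h3 := ringKrullDim_le_ringKrullDim_quotient_add_card s hsjac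
    rw [hs, hdimR] at h3
    exact hP2.trans h3
  have h2 : ∀ r : ℕ, HasObsBound F r →
      (d : WithBot ℕ∞) ≤ ringKrullDim H.ring.carrier + (r : WithBot ℕ∞) := by
    intro r hB
    have hμ := finrank_le_of_hasObsBound (RingHom.ker ψ) hker res' hB
      (H.family.along e.symm.toAlgHom hres) (isVersal_along H.family H.miniversal.1 e hres)
    have hsr : (s.card : WithBot ℕ∞) ≤ (r : WithBot ℕ∞) := by
      exact_mod_cast hcard.trans hμ
    exact h2'.trans (add_le_add_right hsr _)
  refine ⟨h1, h2, ?_, ?_⟩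
  · intro hdim
    -- `ψ` is injective
    have hinj : Function.Injective ψ := by
      rw [injective_iff_map_eq_zero]
      intro f hf
      by_contra hne
      have hnzd : f ∈ nonZeroDivisors (MvPowerSeries (Fin d) k) :=
        mem_nonZeroDivisors_of_ne_zero hne
      have h1 := ringKrullDim_succ_le_of_surjective
        (ψ : MvPowerSeries (Fin d) k →+* H.ring.carrier) hsurj hnzd hf
      rw [hdim] at h1
      have h3 : ((d : WithBot ℕ∞) + 1) ≤ (d : WithBot ℕ∞) := le_trans h1 hP1
      have h4 : ((d + 1 : ℕ) : WithBot ℕ∞) ≤ ((d : ℕ) : WithBot ℕ∞) := by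
        push_cast
        exact h3
      have h5 : d + 1 ≤ d := by exact_mod_cast h4
      omega
    intro B A μ hμ u
    obtain ⟨φ, rfl⟩ := Groth.Agent.S12727.versal_surjective h0 H.family H.miniversal.1 A u
    obtain ⟨φ', hφ'⟩ := exists_lift_of_bijective H.ring ψ ⟨hinj, hsurj⟩ μ hμ φ
    refine ⟨H.family.app B φ', ?_⟩
    rw [← hφ']
    exact (H.family.natural μ φ').symm
  · intro hF
    have h3 := h2 0 (hasObsBound_zero_of_isSmoothFunctor hF)
    rw [Nat.cast_zero, add_zero] at h3
    exact le_antisymm h1 h3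

end Groth.Agent.Lib.Helper97.DefObs
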