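import Mathlib

/-!
# Hyperplane ideals in the kernel of a semismall extension
-/

set_option autoImplicit false

namespace Groth.Agent.Lib.Helper97.DefObs

universe u

variable {k : Type u} [Field k] {A' A : Type u} [CommRing A'] [CommRing A]
  [IsLocalRing A'] [Algebra k A']
  (eA' : A' →+* k) (eA : A →+* k) (p : A' →+* A) (hpe : eA.comp p = eA')
  (heA' : Function.Surjective eA')
  (hek : ∀ c : k, eA' (algebraMap k A' c) = c)
  (hmI : ∀ c ∈ IsLocalRing.maximalIdeal A', ∀ x ∈ RingHom.ker p, c * x = 0)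

/-- The kernel as a `k`-subspace. -/
abbrev Ik (k : Type u) [Field k] {A' A : Type u} [CommRing A'] [CommRing A] [Algebra k A']
    (p : A' →+* A) : Submodule k A' := (RingHom.ker p).restrictScalars k

omit [Algebra k A'] in
include heA' in
lemma ker_eA' : RingHom.ker eA' = IsLocalRing.maximalIdeal A' :=
  IsLocalRing.eq_maximalIdeal (RingHom.ker_isMaximal_of_surjective eA' heA')

include heA' hek hmI in
lemma mul_eq_smul (c : A') (x : A') (hx : x ∈ RingHom.ker p) : c * x = (eA' c) • x := by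
  have h1 : c - algebraMap k A' (eA' c) ∈ IsLocalRing.maximalIdeal A' := by
    rw [← ker_eA' eA' heA', RingHom.mem_ker, map_sub, hek, sub_self]
  have h2 := hmI _ h1 x hx
  rw [sub_mul, sub_eq_zero] at h2
  rw [h2]
  exact (Algebra.smul_def (eA' c) x).symm

/-- The hyperplane ideal of a functional. -/
def Kψ (ψ : Ik k p →ₗ[k] k) : Ideal A' where
  carrier := {x | ∃ h : x ∈ RingHom.ker p, ψ ⟨x, h⟩ = 0}
  add_mem' := by
    rintro x y ⟨hx, hx0⟩ ⟨hy, hy0⟩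
    refine ⟨(RingHom.ker p).add_mem hx hy, ?_⟩
    have : (⟨x + y, (RingHom.ker p).add_mem hx hy⟩ : Ik k p) = ⟨x, hx⟩ + ⟨y, hy⟩ := rfl
    rw [this, map_add, hx0, hy0, add_zero]
  zero_mem' := ⟨(RingHom.ker p).zero_mem, by
    have : (⟨0, (RingHom.ker p).zero_mem⟩ : Ik k p) = 0 := rfl
    rw [this, map_zero]⟩
  smul_mem' := by
    rintro c x ⟨hx, hx0⟩
    have e1 : c • x = (eA' c) • x := mul_eq_smul eA' p heA' hek hmI c x hx
    have hcx : (eA' c) • x ∈ RingHom.ker p := (Ik k p).smul_mem _ hx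
    rw [e1]
    refine ⟨hcx, ?_⟩
    have : (⟨(eA' c) • x, hcx⟩ : Ik k p) = (eA' c) • ⟨x, hx⟩ := rfl
    rw [this, map_smul, hx0, smul_zero]

variable {p} in
lemma mem_Kψ {ψ : Ik k p →ₗ[k] k} {x : A'} :
    x ∈ Kψ eA' p heA' hek hmI ψ ↔ ∃ h : x ∈ RingHom.ker p, ψ ⟨x, h⟩ = 0 := Iff.rfl

lemma Kψ_le (ψ : Ik k p →ₗ[k] k) : Kψ eA' p heA' hek hmI ψ ≤ RingHom.ker p := fun _ hx => hx.1

lemma sub_mem_Kψ (ψ : Ik k p →ₗ[k] k) (t₀ : A') (ht₀ : t₀ ∈ RingHom.ker p)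
    (h1 : ψ ⟨t₀, ht₀⟩ = 1) (x : A') (hx : x ∈ RingHom.ker p) :
    x - algebraMap k A' (ψ ⟨x, hx⟩) * t₀ ∈ Kψ eA' p heA' hek hmI ψ := by
  have e1 : algebraMap k A' (ψ ⟨x, hx⟩) * t₀ = (ψ ⟨x, hx⟩) • t₀ := (Algebra.smul_def _ _).symm
  have h2 : (ψ ⟨x, hx⟩) • t₀ ∈ RingHom.ker p := (Ik k p).smul_mem _ ht₀
  rw [e1]
  refine ⟨(RingHom.ker p).sub_mem hx h2, ?_⟩
  have : (⟨x - (ψ ⟨x, hx⟩) • t₀, (RingHom.ker p).sub_mem hx h2⟩ : Ik k p) =
      ⟨x, hx⟩ - (ψ ⟨x, hx⟩) • ⟨t₀, ht₀⟩ := rfl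
  rw [this, map_sub, map_smul, h1, smul_eq_mul, mul_one, sub_self]

lemma notMem_Kψ (ψ : Ik k p →ₗ[k] k) (t₀ : A') (ht₀ : t₀ ∈ RingHom.ker p)
    (h1 : ψ ⟨t₀, ht₀⟩ = 1) : t₀ ∉ Kψ eA' p heA' hek hmI ψ := by
  rintro ⟨h, h0⟩
  rw [h1] at h0
  exact one_ne_zero h0

end Groth.Agent.Lib.Helper97.DefObs
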