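import Groth.Agent.Lib.Helper97.DefObs.Hyper

/-!
# The small extension obtained by dividing a semismall extension by a hyperplane
-/

set_option autoImplicit false

namespace Groth.Agent.Lib.Helper97.DefObs

universe u

variable {k : Type u} [Field k] {A' A : Type u} [CommRing A'] [CommRing A]
  [IsLocalRing A'] [Algebra k A']
  (eA' : A' →+* k) (eA : A →+* k) (p : A' →+* A) (hpe : eA.comp p = eA')
  (heA' : Function.Surjective eA') (hp : Function.Surjective p)
  (hmI : ∀ c ∈ IsLocalRing.maximalIdeal A', ∀ x ∈ RingHom.ker p, c * x = 0)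
  (K : Ideal A') (hK : K ≤ RingHom.ker p) (t₀ : A') (ht₀ : t₀ ∈ RingHom.ker p) (ht₀K : t₀ ∉ K)
  (hsub : ∀ x ∈ RingHom.ker p, ∃ c : k, x - algebraMap k A' c * t₀ ∈ K)

/-- The induced map from the quotient. -/
def pK : A' ⧸ K →+* A := Ideal.Quotient.lift K p (fun _ hx => hK hx)

lemma pK_mk (x : A') : pK p K hK (Ideal.Quotient.mk K x) = p x := rfl

include hp in
lemma pK_surjective : Function.Surjective (pK p K hK) := by
  intro y
  obtain ⟨x, rfl⟩ := hp y
  exact ⟨Ideal.Quotient.mk K x, rfl⟩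

include ht₀K in
lemma isLocalRing_quot : IsLocalRing (A' ⧸ K) := by
  haveI : Nontrivial (A' ⧸ K) := Ideal.Quotient.nontrivial_iff.mpr (fun h => ht₀K (h ▸ trivial))
  exact IsLocalRing.of_surjective' (Ideal.Quotient.mk K) Ideal.Quotient.mk_surjective

include ht₀K in
lemma mk_t₀_ne_zero : Ideal.Quotient.mk K t₀ ≠ 0 := fun h =>
  ht₀K (Ideal.Quotient.eq_zero_iff_mem.mp h)

include ht₀ hsub in
lemma ker_pK : RingHom.ker (pK p K hK) = Ideal.span {Ideal.Quotient.mk K t₀} := by
  apply le_antisymm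
  · intro x hx
    obtain ⟨y, rfl⟩ := Ideal.Quotient.mk_surjective x
    have hy : y ∈ RingHom.ker p := hx
    obtain ⟨c, hc⟩ := hsub y hy
    have h1 : Ideal.Quotient.mk K y =
        Ideal.Quotient.mk K (algebraMap k A' c) * Ideal.Quotient.mk K t₀ := by
      rw [← map_mul, ← sub_eq_zero, ← map_sub]
      exact Ideal.Quotient.eq_zero_iff_mem.mpr hc
    rw [h1]
    exact Ideal.mul_mem_left _ _ (Ideal.subset_span rfl)
  · rw [Ideal.span_le]
    rintro _ rfl
    exact ht₀

include hpe heA' hmI ht₀ in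
lemma mul_mk_t₀_eq_zero (hloc : IsLocalRing (A' ⧸ K)) (c : A' ⧸ K)
    (hc : c ∈ IsLocalRing.maximalIdeal (A' ⧸ K)) : c * Ideal.Quotient.mk K t₀ = 0 := by
  obtain ⟨c', rfl⟩ := Ideal.Quotient.mk_surjective c
  have hc' : c' ∈ IsLocalRing.maximalIdeal A' := by
    by_contra hnot
    have hu : IsUnit c' := by
      by_contra hnu
      exact hnot ((IsLocalRing.mem_maximalIdeal _).mpr hnu)
    exact (IsLocalRing.mem_maximalIdeal _).mp hc (hu.map (Ideal.Quotient.mk K))
  rw [← map_mul, hmI c' hc' t₀ ht₀, map_zero]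

end Groth.Agent.Lib.Helper97.DefObs
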