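import Groth.Agent.Lib.Helper97.DefObs.QuotK
import Groth.Agent.Lib.Helper97.DefObs.LiftK

/-!
# Obstruction maps of the hyperplane quotients of a semismall extension
-/

set_option autoImplicit false

namespace Groth.Agent.Lib.Helper97.DefObs

open Groth.Agent.Lib.Helper97.CotT2 Groth.Agent.Lib.Helper97.DefAff MvPolynomial
open Groth.Agent.Lib.Helper97.DefLift Groth.Agent.Lib.Helper97.DefLCI

universe u

variable {k : Type u} [Field k] {A' A : Type u} [CommRing A'] [CommRing A]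
  [IsLocalRing A'] [IsLocalRing A] [IsArtinianRing A'] [IsArtinianRing A] [Algebra k A']
  (eA' : A' →+* k) (eA : A →+* k) (p : A' →+* A) (hpe : eA.comp p = eA')
  (heA : Function.Surjective eA) (hp : Function.Surjective p)
  (hek : ∀ c : k, eA' (algebraMap k A' c) = c)
  (hmI : ∀ c ∈ IsLocalRing.maximalIdeal A', ∀ x ∈ RingHom.ker p, c * x = 0)
  {B₀ : Type u} [CommRing B₀] {ι : Type u} {σ : Type*}
  [Algebra (MvPolynomial ι k) B₀]
  (hκ : Function.Surjective (algebraMap (MvPolynomial ι k) B₀))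
  (f : σ → MvPolynomial ι k)
  (hf : Ideal.span (Set.range f) = RingHom.ker (algebraMap (MvPolynomial ι k) B₀))
  {R : Type u} [CommRing R] (a : A →+* R) (π : R →+* B₀) (ha : a.Flat)
  (hπ : Function.Surjective π) (hkerπ : RingHom.ker π = (RingHom.ker eA).map a)
  (hπa : ∀ c : A, π (a c) = algebraMap (MvPolynomial ι k) B₀ (C (eA c)))
  (r : ι → R) (hr : ∀ i, π (r i) = algebraMap (MvPolynomial ι k) B₀ (X i))

section PerK

variable (K : Ideal A') (hK : K ≤ RingHom.ker p) (t₀ : A') (ht₀ : t₀ ∈ RingHom.ker p)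
  (ht₀K : t₀ ∉ K)
  (hsub : ∀ x ∈ RingHom.ker p, ∃ c : k, x - algebraMap k A' c * t₀ ∈ K)

include hpe heA hp hmI hκ hf ha hπ hkerπ hπa hr ht₀ ht₀K hsub in
theorem coreHyp_quot (hloc : IsLocalRing (A' ⧸ K)) :
    CoreHypL (map (pK p K hK) : MvPolynomial ι (A' ⧸ K) →+* MvPolynomial ι A)
      (map eA : MvPolynomial ι A →+* MvPolynomial ι k) (eval₂Hom a r) π
      (C (Ideal.Quotient.mk K t₀) : MvPolynomial ι (A' ⧸ K)) f := by
  have heA' : Function.Surjective eA' := by rw [← hpe]; exact heA.comp hp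
  exact coreHypL_mvPolynomial (eA.comp (pK p K hK)) eA (pK p K hK) rfl heA
    (pK_surjective p hp K hK) (Ideal.Quotient.mk K t₀) (ker_pK p K hK t₀ ht₀ hsub)
    (mk_t₀_ne_zero K t₀ ht₀K)
    (mul_mk_t₀_eq_zero eA' eA p hpe heA' hmI K t₀ ht₀ hloc) hκ f hf a π ha hπ hkerπ hπa r hr

include hpe hek in
/-- Push-forward of a semismall decomposition to a hyperplane quotient. -/
theorem isOb_push (F'' : σ → MvPolynomial ι A') {n : ℕ} (t : Fin n → A') (c : Fin n → k)
    (ht : ∀ j, Ideal.Quotient.mk K (t j) =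
      Ideal.Quotient.mk K (algebraMap k A' (c j)) * Ideal.Quotient.mk K t₀)
    (q'' : σ →₀ MvPolynomial ι A') (x : Fin n → MvPolynomial ι A')
    (hx : jm F'' q'' = ∑ j, x j * C (t j)) :
    CoreHypL.IsOb (B₀ := B₀) (map (pK p K hK) : MvPolynomial ι (A' ⧸ K) →+* MvPolynomial ι A)
      (map eA : MvPolynomial ι A →+* MvPolynomial ι k)
      (C (Ideal.Quotient.mk K t₀) : MvPolynomial ι (A' ⧸ K))
      (fun s => map (Ideal.Quotient.mk K) (F'' s))
      (mr ((map eA : MvPolynomial ι A →+* MvPolynomial ι k).comp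
        (map p : MvPolynomial ι A' →+* MvPolynomial ι A)) q'')
      (∑ j, algebraMap (MvPolynomial ι k) B₀ (C (c j)) *
        algebraMap (MvPolynomial ι k) B₀ (map eA (map p (x j)))) := by
  let θ : MvPolynomial ι A' →+* MvPolynomial ι (A' ⧸ K) := map (Ideal.Quotient.mk K)
  have hθ : (map (pK p K hK) : MvPolynomial ι (A' ⧸ K) →+* MvPolynomial ι A).comp θ =
      (map p : MvPolynomial ι A' →+* MvPolynomial ι A) := by
    refine RingHom.ext fun y => ?_
    show map (pK p K hK) (map (Ideal.Quotient.mk K) y) = map p y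
    rw [MvPolynomial.map_map]
    rfl
  refine ⟨mr θ q'', ∑ j, C (Ideal.Quotient.mk K (algebraMap k A' (c j))) * θ (x j), ?_, ?_, ?_⟩
  · rw [mr_comp, RingHom.comp_assoc, hθ]
  · rw [jm_mr θ F'' _ (fun s => rfl) q'', hx, map_sum, Finset.mul_sum]
    refine Finset.sum_congr rfl fun j _ => ?_
    rw [map_mul]
    show θ (x j) * map (Ideal.Quotient.mk K) (C (t j)) = _
    rw [MvPolynomial.map_C, ht j, map_mul]
    ring
  · rw [map_sum, map_sum, map_sum]
    refine Finset.sum_congr rfl fun j _ => ?_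
    rw [map_mul, map_mul, map_mul]
    congr 2
    · rw [MvPolynomial.map_C, MvPolynomial.map_C]
      congr 1
      show eA (p (algebraMap k A' (c j))) = c j
      have : eA (p (algebraMap k A' (c j))) = eA' (algebraMap k A' (c j)) :=
        congrArg (fun g => g (algebraMap k A' (c j))) hpe
      rw [this, hek]
    · have := congrArg (fun g => g (x j)) hθ
      exact congrArg _ this

end PerK

include hpe heA hp hek hmI hκ hf ha hπ hkerπ hπa hr in
/-- If the obstruction classes of the coordinate hyperplanes are linearly dependent, the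
deformation lifts to the quotient by some hyperplane. -/
theorem exists_hyperplane_lift [Module.Finite k A'] {n : ℕ}
    (hn : Module.finrank k (Ik k p) = n)
    (hdep : ∀ φ : Fin n → (Q f →ₗ[MvPolynomial ι k] B₀),
      (∀ j (q : Q f), (q : σ →₀ MvPolynomial ι k) ∈ F0 f → φ j q = 0) →
      ∃ c : Fin n → k, c ≠ 0 ∧ ∃ Ψ : (σ →₀ MvPolynomial ι k) →ₗ[MvPolynomial ι k] B₀,
        ∀ q : Q f, ∑ j, algebraMap (MvPolynomial ι k) B₀ (C (c j)) * φ j q = Ψ q) :
    ∃ (K : Ideal A') (hK : K ≤ RingHom.ker p) (_ : K ≠ RingHom.ker p),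
    ∃ (R' : Type u) (_ : CommRing R') (a' : A' ⧸ K →+* R') (π' : R' →+* B₀) (q : R' →+* R),
      a'.Flat ∧ Function.Surjective π' ∧
      RingHom.ker π' = (RingHom.ker (eA.comp (pK p K hK))).map a' ∧
      (∀ c, π' (a' c) = algebraMap (MvPolynomial ι k) B₀ (C (eA (pK p K hK c)))) ∧
      Function.Surjective q ∧
      RingHom.ker q = (RingHom.ker (pK p K hK)).map a' ∧ (∀ c, q (a' c) = a (pK p K hK c)) ∧
      (∀ x, π (q x) = π' x) := by
  classical
  have heA' : Function.Surjective eA' := by rw [← hpe]; exact heA.comp hp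
  let b : Module.Basis (Fin n) k (Ik k p) := Module.finBasisOfFinrankEq k (Ik k p) hn
  let t : Fin n → A' := fun j => (b j : A')
  have ht : ∀ j, t j ∈ RingHom.ker p := fun j => (b j).2
  -- the case `n = 0`
  rcases Nat.eq_zero_or_pos n with hn0 | hnpos
  · exfalso
    obtain ⟨c, hc, -⟩ := hdep (fun _ => 0) (fun _ _ _ => rfl)
    apply hc
    funext j
    exact absurd j.2 (by omega)
  -- general functionals
  have hcore : ∀ (ψ : Ik k p →ₗ[k] k) (t₀ : A') (ht₀ : t₀ ∈ RingHom.ker p)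
      (h1 : ψ ⟨t₀, ht₀⟩ = 1),
      (∀ x ∈ RingHom.ker p, ∃ c : k, x - algebraMap k A' c * t₀ ∈ Kψ eA' p heA' hek hmI ψ) ∧
        t₀ ∉ Kψ eA' p heA' hek hmI ψ := by
    intro ψ t₀ ht₀ h1
    exact ⟨fun x hx => ⟨_, sub_mem_Kψ eA' p heA' hek hmI ψ t₀ ht₀ h1 x hx⟩,
      notMem_Kψ eA' p heA' hek hmI ψ t₀ ht₀ h1⟩
  -- the coordinate functionals
  have hcoord : ∀ i j, (b.coord i) ⟨t j, ht j⟩ = if i = j then 1 else 0 := by
    intro i j
    have : (⟨t j, ht j⟩ : Ik k p) = b j := rfl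
    rw [this, Module.Basis.coord_apply, Module.Basis.repr_self, Finsupp.single_apply]
    by_cases hij : i = j
    · rw [if_pos hij, if_pos hij.symm]
    · rw [if_neg hij, if_neg (fun h => hij h.symm)]
  let Kc : Fin n → Ideal A' := fun i => Kψ eA' p heA' hek hmI (b.coord i)
  have hKc : ∀ i, Kc i ≤ RingHom.ker p := fun i => Kψ_le eA' p heA' hek hmI _
  have h1c : ∀ i, (b.coord i) ⟨t i, ht i⟩ = 1 := fun i => by rw [hcoord, if_pos rfl]
  have hlocc : ∀ i, IsLocalRing (A' ⧸ Kc i) := fun i =>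
    isLocalRing_quot (Kc i) (t i) (hcore _ _ (ht i) (h1c i)).2
  have hCc : ∀ i, CoreHypL (map (pK p (Kc i) (hKc i)) :
      MvPolynomial ι (A' ⧸ Kc i) →+* MvPolynomial ι A)
      (map eA : MvPolynomial ι A →+* MvPolynomial ι k) (eval₂Hom a r) π
      (C (Ideal.Quotient.mk (Kc i) (t i)) : MvPolynomial ι (A' ⧸ Kc i)) f := fun i =>
    coreHyp_quot eA' eA p hpe heA hp hmI hκ f hf a π ha hπ hkerπ hπa r hr (Kc i) (hKc i) (t i)
      (ht i) (hcore _ _ (ht i) (h1c i)).2 (hcore _ _ (ht i) (h1c i)).1 (hlocc i)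
  -- lifts of the relations
  let j₀ : Fin n := ⟨0, hnpos⟩
  have hF : ∀ s : σ, ∃ x : MvPolynomial ι A, (eval₂Hom a r) x = 0 ∧ map eA x = f s :=
    fun s => (hCc j₀).exists_lift_ker _ ((hCc j₀).f_mem_ker s)
  choose F hF1 hF2 using hF
  have hF'' : ∀ s : σ, ∃ x : MvPolynomial ι A', map p x = F s :=
    fun s => MvPolynomial.map_surjective p hp _
  choose F'' hF'' using hF''
  have hFK : ∀ (K : Ideal A') (hK : K ≤ RingHom.ker p) (s : σ),
      map (pK p K hK) (map (Ideal.Quotient.mk K) (F'' s)) = F s := by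
    intro K hK s
    rw [MvPolynomial.map_map, ← hF'' s]
    rfl
  -- the coordinate obstruction maps
  have hφ : ∀ i, ∃ φ : Q f →ₗ[MvPolynomial ι k] B₀,
      (∀ q : Q f, CoreHypL.IsOb (map (pK p (Kc i) (hKc i))) (map eA)
        (C (Ideal.Quotient.mk (Kc i) (t i))) (fun s => map (Ideal.Quotient.mk (Kc i)) (F'' s))
        (q : σ →₀ MvPolynomial ι k) (φ q)) ∧
      (∀ q : Q f, (q : σ →₀ MvPolynomial ι k) ∈ F0 f → φ q = 0) := fun i =>
    (hCc i).exists_obMap hF1 hF2 (hFK (Kc i) (hKc i))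
  choose φ hφ1 hφ0 using hφ
  obtain ⟨c, hc, Ψ, hΨ⟩ := hdep φ hφ0
  -- the functional
  let ψ : Ik k p →ₗ[k] k := ∑ j, c j • b.coord j
  have hψt : ∀ j, ψ ⟨t j, ht j⟩ = c j := by
    intro j
    show (∑ i, c i • b.coord i) ⟨t j, ht j⟩ = c j
    rw [LinearMap.sum_apply]
    simp only [LinearMap.smul_apply, hcoord, smul_eq_mul, mul_ite, mul_one, mul_zero]
    rw [Finset.sum_ite_eq' Finset.univ j]
    simp
  obtain ⟨j₁, hj₁⟩ : ∃ j, c j ≠ 0 := by
    by_contra hall
    push_neg at hall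
    exact hc (funext hall)
  let t₀ : A' := algebraMap k A' (c j₁)⁻¹ * t j₁
  have ht₀ : t₀ ∈ RingHom.ker p := Ideal.mul_mem_left _ _ (ht j₁)
  have h1 : ψ ⟨t₀, ht₀⟩ = 1 := by
    have : (⟨t₀, ht₀⟩ : Ik k p) = (c j₁)⁻¹ • ⟨t j₁, ht j₁⟩ := by
      apply Subtype.ext
      show algebraMap k A' (c j₁)⁻¹ * t j₁ = (c j₁)⁻¹ • t j₁
      exact (Algebra.smul_def _ _).symm
    rw [this, map_smul, hψt, smul_eq_mul, inv_mul_cancel₀ hj₁]
  set K := Kψ eA' p heA' hek hmI ψ with hKdef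
  have hK : K ≤ RingHom.ker p := Kψ_le eA' p heA' hek hmI ψ
  have hsub := (hcore ψ t₀ ht₀ h1).1
  have ht₀K := (hcore ψ t₀ ht₀ h1).2
  have hloc : IsLocalRing (A' ⧸ K) := isLocalRing_quot K t₀ ht₀K
  have hC := coreHyp_quot eA' eA p hpe heA hp hmI hκ f hf a π ha hπ hkerπ hπa r hr K hK t₀
    ht₀ ht₀K hsub hloc
  obtain ⟨φψ, hφψ1, -⟩ := hC.exists_obMap hF1 hF2 (hFK K hK)
  -- comparison of the obstruction maps
  have hmk : ∀ (ψ' : Ik k p →ₗ[k] k) (t₁ : A') (ht₁ : t₁ ∈ RingHom.ker p)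
      (h1' : ψ' ⟨t₁, ht₁⟩ = 1) (j : Fin n),
      Ideal.Quotient.mk (Kψ eA' p heA' hek hmI ψ') (t j) =
        Ideal.Quotient.mk (Kψ eA' p heA' hek hmI ψ') (algebraMap k A' (ψ' ⟨t j, ht j⟩)) *
          Ideal.Quotient.mk (Kψ eA' p heA' hek hmI ψ') t₁ := by
    intro ψ' t₁ ht₁ h1' j
    rw [← map_mul, ← sub_eq_zero, ← map_sub]
    exact Ideal.Quotient.eq_zero_iff_mem.mpr (sub_mem_Kψ eA' p heA' hek hmI ψ' t₁ ht₁ h1' _ (ht j))
  have hspan : RingHom.ker p = Ideal.span (Set.range t) := by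
    apply le_antisymm
    · intro x hx
      have h2 := b.sum_repr ⟨x, hx⟩
      have h3 : x = ∑ i, algebraMap k A' ((b.repr ⟨x, hx⟩) i) * t i := by
        have h4 := congrArg (fun y : Ik k p => (y : A')) h2
        simp only [Submodule.coe_sum, Submodule.coe_smul] at h4
        refine h4.symm.trans ?_
        exact Finset.sum_congr rfl fun i _ => Algebra.smul_def _ _
      rw [h3]
      exact Ideal.sum_mem _ fun i _ => Ideal.mul_mem_left _ _ (Ideal.subset_span ⟨i, rfl⟩)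
    · rw [Ideal.span_le]
      rintro _ ⟨j, rfl⟩
      exact ht j
  have hagree : ∀ q : Q f, φψ q = Ψ q := by
    intro q
    obtain ⟨qA, hqA, hmr⟩ := (hCc j₀).exists_lift_rel hF1 hF2 (q : σ →₀ MvPolynomial ι k) q.2
    obtain ⟨q'', rfl⟩ := mr_surjective (map p : MvPolynomial ι A' →+* MvPolynomial ι A)
      (MvPolynomial.map_surjective p hp) qA
    have hjm : jm F'' q'' ∈ Ideal.span (Set.range fun j => (C (t j) : MvPolynomial ι A')) := by
      have h2 : jm F'' q'' ∈ RingHom.ker (map p : MvPolynomial ι A' →+* MvPolynomial ι A) := by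
        rw [RingHom.mem_ker, ← jm_mr (map p) F'' F hF'' q'']
        exact (mem_Q F).mp hqA
      rw [MvPolynomial.ker_map, hspan, Ideal.map_span, ← Set.range_comp] at h2
      exact h2
    obtain ⟨x, hx⟩ := Ideal.mem_span_range_iff_exists_fun.mp hjm
    have hmr' : mr ((map eA : MvPolynomial ι A →+* MvPolynomial ι k).comp
        (map p : MvPolynomial ι A' →+* MvPolynomial ι A)) q'' = (q : σ →₀ MvPolynomial ι k) := by
      rw [← mr_comp]
      exact hmr
    -- coordinate functionals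
    have hcoordval : ∀ i, φ i q = algebraMap (MvPolynomial ι k) B₀ (map eA (map p (x i))) := by
      intro i
      have hpush := isOb_push eA' eA p hpe hek (B₀ := B₀) (Kc i) (hKc i) (t i) F'' t
        (fun j => (b.coord i) ⟨t j, ht j⟩)
        (fun j => hmk (b.coord i) (t i) (ht i) (h1c i) j) q'' x hx.symm
      rw [hmr'] at hpush
      have huniq := (hCc i).isOb_unique hF1 hF2 (hFK (Kc i) (hKc i)) (hφ1 i q) hpush
      rw [huniq]
      simp only [hcoord]
      rw [Finset.sum_eq_single i]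
      · rw [if_pos rfl, MvPolynomial.C_1, map_one, one_mul]
      · intro j _ hji
        rw [if_neg (fun h => hji h.symm), MvPolynomial.C_0, map_zero, zero_mul]
      · intro h
        exact absurd (Finset.mem_univ i) h
    have hpush := isOb_push eA' eA p hpe hek (B₀ := B₀) K hK t₀ F'' t
      (fun j => ψ ⟨t j, ht j⟩) (fun j => hmk ψ t₀ ht₀ h1 j) q'' x hx.symm
    rw [hmr'] at hpush
    have huniq := hC.isOb_unique hF1 hF2 (hFK K hK) (hφψ1 q) hpush
    rw [huniq, ← hΨ q]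
    refine Finset.sum_congr rfl fun j _ => ?_
    rw [hψt, hcoordval]
  obtain ⟨K', hK'1, hK'2⟩ := hC.exists_lift_ideal_of_extends hF1 hF2 (hFK K hK) φψ hφψ1 Ψ hagree
  have := hloc
  have hres := exists_lift_ring_of_ideal (eA.comp (pK p K hK)) eA (pK p K hK) rfl heA
    (pK_surjective p hp K hK) (Ideal.Quotient.mk K t₀) (ker_pK p K hK t₀ ht₀ hsub)
    (mk_t₀_ne_zero K t₀ ht₀K)
    (mul_mk_t₀_eq_zero eA' eA p hpe heA' hmI K t₀ ht₀ hloc) hκ f hf a π ha hπ hkerπ hπa r hr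
    K' hK'1 hK'2
  refine ⟨K, hK, ?_, hres⟩
  intro hEq
  have h5 : t₀ ∈ K := by rw [hEq]; exact ht₀
  exact ht₀K h5

end Groth.Agent.Lib.Helper97.DefObs
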