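import Groth.Agent.Lib.Helper97.DefHull.Tangent3
import Groth.Agent.Lib.Helper97.CotT2.T01
import Groth.Agent.Lib.Helper76.SchlCut
import Groth.Agent.Lib.Helper97.DefObs.DerDim

/-!
# The tangent space of a hull of the deformation functor of `Spec B₀` has dimension `dim T¹`
-/

set_option autoImplicit false

namespace Groth.Agent.Lib.Helper97.DefObs

open ArtFun ArtFun.Art Groth.Agent.Lib.Helper76 Groth.Agent.Lib.Helper97.DefHull
open Groth.Agent.Lib.Helper97.CotT2

universe u

attribute [local instance] cringAlgebra cringTower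

variable {k : Type u} [Field k] {B₀ : Type u} [CommRing B₀] [Algebra k B₀] {ι σ : Type u}

theorem finrank_derivation_eq_T1 (P : Algebra.Presentation k B₀ ι σ) (H : Hull (DefF k k B₀)) :
    Module.finrank k (Derivation k H.ring.carrier k) = Module.finrank k (CotT.T1 P B₀) := by
  letI := tangentStr k k B₀
  have hbij : Function.Bijective (tangentLin (cring_hres H.ring) H.family) := by
    constructor
    · intro D D' h
      have h0 := H.miniversal.2.1 h
      have h1 := congrArg (derOf (cring_hres H.ring)) h0
      rwa [derOf_homSetOfDer, derOf_homSetOfDer] at h1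
    · intro v
      obtain ⟨θ, hθ⟩ := H.miniversal.2.2 v
      refine ⟨derOf (cring_hres H.ring) θ, ?_⟩
      rw [tangentLin_apply, homSetOfDer_derOf]
      exact hθ
  let e1 := LinearEquiv.ofBijective _ hbij
  let e2 : TC k B₀ ≃ₗ[k] TangentSpace (DefF k k B₀) :=
    { toFun := (tangentEquiv k k B₀).symm
      invFun := tangentEquiv k k B₀
      left_inv := (tangentEquiv k k B₀).apply_symm_apply
      right_inv := (tangentEquiv k k B₀).symm_apply_apply
      map_add' := fun x y => by
        show _ = (tangentEquiv k k B₀).symm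
          (tangentEquiv k k B₀ ((tangentEquiv k k B₀).symm x) +
            tangentEquiv k k B₀ ((tangentEquiv k k B₀).symm y))
        rw [Equiv.apply_symm_apply, Equiv.apply_symm_apply]
      map_smul' := fun c x => by
        show _ = (tangentEquiv k k B₀).symm
          (c • tangentEquiv k k B₀ ((tangentEquiv k k B₀).symm x))
        rw [Equiv.apply_symm_apply] }
  obtain ⟨e3⟩ := nonempty_TC_equiv_T1 k B₀
  obtain ⟨e4⟩ := nonempty_T1_equiv P (CotT.canon k B₀) B₀
  rw [e1.finrank_eq, ← e2.finrank_eq, (e3.restrictScalars k).finrank_eq,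
    ← (e4.restrictScalars k).finrank_eq]

/-- The number of variables of a minimal presentation of a hull is `dim T¹`. -/
theorem eq_finrank_T1 (P : Algebra.Presentation k B₀ ι σ) (H : Hull (DefF k k B₀)) {d : ℕ}
    (ψ : MvPowerSeries (Fin d) k →ₐ[k] H.ring.carrier) (hsurj : Function.Surjective ψ)
    (hker : RingHom.ker ψ ≤ IsLocalRing.maximalIdeal (MvPowerSeries (Fin d) k) ^ 2) :
    d = Module.finrank k (CotT.T1 P B₀) :=
  (finrank_derivation H.ring ψ hsurj hker).symm.trans (finrank_derivation_eq_T1 P H)

end Groth.Agent.Lib.Helper97.DefObs
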